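import Groth.Agent.L04.EagonNorthcott.Matrices
import Mathlib.Data.Finset.Sort
import Mathlib.LinearAlgebra.Matrix.Determinant.Basic
import Mathlib.RingTheory.Ideal.Span
import Mathlib.Tactic.LinearCombination

/-!
# Iterated contractions are maximal minors; naturality of the matrices
-/

set_option autoImplicit false

universe u

noncomputable section

namespace Groth.L04.EagonNorthcott

open Finset

variable {R : Type u} [CommRing R] {m n : ℕ} (Φ : Fin m → Fin n → R)

/-- The global sign of the iterated contraction. -/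
def sig : ℕ → R
  | 0 => 1
  | i + 1 => (-1) ^ i * sig i

theorem sig_sq : ∀ i : ℕ, sig (R := R) i * sig i = 1
  | 0 => one_mul 1
  | i + 1 => by
    show ((-1) ^ i * sig i) * ((-1) ^ i * sig i) = (1 : R)
    rw [mul_mul_mul_comm, sig_sq i, mul_one, ← pow_add, ← two_mul, pow_mul]
    simp

theorem con_single (φ : Fin n → R) (T : Finset (Fin n)) :
    con φ (Pi.single T 1 : W R n) = ∑ s ∈ T, (φ s * sgn s (T.erase s)) • Pi.single (T.erase s) 1 := by
  have h0 : ∀ s ∈ (univ : Finset (Fin n)), s ∉ T → φ s • Dl s (Pi.single T 1 : W R n) = 0 := fun s _ hs => funext fun U => by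
    simp only [Pi.smul_apply, smul_eq_mul, Dl_apply, Pi.zero_apply]
    split_ifs with hU
    · ring
    · rw [Pi.single_apply, if_neg, mul_zero, mul_zero]
      intro h
      exact hs (by rw [← h]; exact mem_insert_self s U)
  rw [con_apply, ← sum_subset (subset_univ T) h0]
  refine sum_congr rfl fun s hs => funext fun U => ?_
  simp only [Pi.smul_apply, smul_eq_mul, Dl_apply, Pi.single_apply]
  by_cases h' : U = T.erase s
  · subst h'
    rw [if_neg (notMem_erase s T), insert_erase hs, if_pos rfl, if_pos rfl]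
    ring
  · rw [if_neg h']
    by_cases hU : s ∈ U
    · rw [if_pos hU]; ring
    · rw [if_neg hU, if_neg fun h => h' (by rw [← h, erase_insert hU])]
      ring

theorem sgn_image {k : ℕ} (f : Fin (k + 1) → Fin n) (hf : StrictMono f) (p : Fin (k + 1)) :
    (sgn (f p) ((univ.image f).erase (f p)) : R) = (-1) ^ p.1 := by
  have e : ((univ.image f).erase (f p)).filter (· < f p) = (Iio p).image f := by
    ext y
    simp only [mem_filter, mem_erase, mem_image, mem_univ, true_and, mem_Iio]
    constructor
    · rintro ⟨⟨-, l, rfl⟩, h⟩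
      exact ⟨l, hf.lt_iff_lt.1 h, rfl⟩
    · rintro ⟨l, hl, rfl⟩
      exact ⟨⟨(hf hl).ne, l, rfl⟩, hf hl⟩
  rw [sgn, below, e, card_image_of_injective _ hf.injective, Fin.card_Iio]

theorem image_erase {k : ℕ} (f : Fin (k + 1) → Fin n) (hf : StrictMono f) (p : Fin (k + 1)) :
    (univ.image f).erase (f p) = univ.image (f ∘ p.succAbove) := by
  rw [← image_image, Fin.image_succAbove_univ, compl_singleton, Finset.image_erase hf.injective]

theorem Ipro_single : ∀ (k : ℕ) (hk : k ≤ m) (f : Fin k → Fin n), StrictMono f →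
    Ipro Φ k (Pi.single (univ.image f) 1 : W R n) ∅ =
      sig k * (Matrix.of fun i l => Φ (Fin.castLE hk i) (f l)).det
  | 0, hk, f, _ => by
    show (Pi.single (univ.image f) 1 : W R n) ∅ = _
    rw [show univ.image f = (∅ : Finset (Fin n)) by simp, Pi.single_eq_same]
    simp [sig, Matrix.det_fin_zero]
  | k + 1, hk, f, hf => by
    show Ipro Φ k (io Φ k (Pi.single (univ.image f) 1)) ∅ = _
    rw [io, dif_pos (show k < m by omega), con_single, map_sum, Finset.sum_apply,
      sum_image fun a _ b _ h => hf.injective h, Matrix.det_succ_row _ (Fin.last k), mul_sum]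
    refine sum_congr rfl fun p _ => ?_
    rw [map_smul, Pi.smul_apply, smul_eq_mul, sgn_image f hf p, image_erase f hf p,
      Ipro_single k (by omega) _ (hf.comp (Fin.strictMono_succAbove p))]
    have e : (Matrix.of fun i l => Φ (Fin.castLE hk i) (f l)).submatrix (Fin.last k).succAbove p.succAbove =
        Matrix.of fun i l => Φ (Fin.castLE (Nat.le_of_succ_le hk) i) ((f ∘ p.succAbove) l) := by
      ext i l
      simp [Fin.succAbove_last]
    rw [e, sig, Fin.val_last, pow_add]
    have h1 : ((-1 : R) ^ k) * (-1) ^ k = 1 := by rw [← pow_add, ← two_mul, pow_mul]; simp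
    show Φ ⟨k, _⟩ (f p) * (-1) ^ p.1 * _ = (-1) ^ k * sig k * ((-1) ^ k * (-1) ^ p.1 * Φ ⟨k, by omega⟩ (f p) * _)
    linear_combination -(sig k * (-1) ^ p.1 * Φ ⟨k, by omega⟩ (f p) *
      (Matrix.of fun i l => Φ (Fin.castLE (Nat.le_of_succ_le hk) i) ((f ∘ p.succAbove) l)).det) * h1

/-- The maximal minors. -/
def minorsIdeal : Ideal R := Ideal.span {d | ∃ g : Fin m → Fin n, d = (Matrix.of fun i l => Φ i (g l)).det}

theorem minorRow_eq (b : Fin (rk m n 0)) : minorRow Φ b =
    sig m * (Matrix.of fun i l => Φ i (((en (m := m) (n := n) 0 b).1.2.orderEmbOfFin (en 0 b).2.2) l)).det := by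
  have ha : (en (m := m) (n := n) 0 b).1.1 = 0 := (Finsupp.degree_eq_zero_iff _).1 (en 0 b).2.1
  have hv : vec 0 (Pi.single b 1) (0 : Fin m →₀ ℕ) = (Pi.single (en (m := m) (n := n) 0 b).1.2 1 : W R n) := by
    funext S
    by_cases h : S = (en (m := m) (n := n) 0 b).1.2
    · subst h
      rw [Pi.single_eq_same, ← ha]
      show co 0 (vec 0 (Pi.single b 1)) b = _
      rw [co_vec, Pi.single_eq_same]
    · rw [Pi.single_eq_of_ne h]
      simp only [vec, LinearMap.coe_mk, AddHom.coe_mk]
      split_ifs with hl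
      · refine Pi.single_eq_of_ne (fun h' => h ?_) 1
        rw [← h', Equiv.apply_symm_apply]
      · rfl
  have := Ipro_single Φ m le_rfl _ ((en (m := m) (n := n) 0 b).1.2.orderEmbOfFin (en 0 b).2.2).strictMono
  rw [image_orderEmbOfFin_univ] at this
  rw [minorRow, aug_apply, hv, this]
  simp

theorem span_minorRow : Ideal.span (Set.range (minorRow Φ)) = minorsIdeal Φ := by
  refine le_antisymm (Ideal.span_le.2 ?_) (Ideal.span_le.2 ?_)
  · rintro _ ⟨b, rfl⟩
    rw [minorRow_eq]
    exact Ideal.mul_mem_left _ _ (Ideal.subset_span ⟨_, rfl⟩)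
  · rintro _ ⟨g, rfl⟩
    by_cases hg : Function.Injective g
    · have hc : (univ.image g).card = m + 0 := by rw [card_image_of_injective _ hg, card_fin, add_zero]
      let b : Fin (rk m n 0) := (en 0).symm ⟨(0, univ.image g), ⟨map_zero _, hc⟩⟩
      have hb : (en (m := m) (n := n) 0 b).1.2 = univ.image g := by simp [b]
      let F := (en (m := m) (n := n) 0 b).1.2.orderEmbOfFin (en 0 b).2.2
      have hmem : ∀ l, ∃ l', F l' = g l := fun l => by
        have : g l ∈ Set.range F := by
          rw [range_orderEmbOfFin, hb]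
          simp
        exact this
      choose τ hτ using hmem
      let σ : Equiv.Perm (Fin m) := Equiv.ofBijective τ
        (Finite.injective_iff_bijective.1 fun a c h => hg (by rw [← hτ a, ← hτ c, h]))
      have e : (Matrix.of fun i l => Φ i (g l)) = (Matrix.of fun i l => Φ i (F l)).submatrix id σ := by
        ext i l
        simp [σ, hτ]
      rw [e, Matrix.det_permute']
      refine Ideal.mul_mem_left _ _ ?_
      have h := Ideal.mul_mem_left (Ideal.span (Set.range (minorRow Φ))) (sig (R := R) m)
        (Ideal.subset_span ⟨b, rfl⟩)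
      rwa [minorRow_eq, ← mul_assoc, sig_sq, one_mul] at h
    · simp only [Function.Injective, not_forall] at hg
      obtain ⟨i, j, hij, hne⟩ := hg
      rw [SetLike.mem_coe, Matrix.det_zero_of_column_eq hne fun l => by simp [hij]]
      exact zero_mem _

section Natural

variable {R' : Type u} [CommRing R'] (f : R →+* R')

/-- Coefficientwise application. -/
def mapW (w : W R n) : W R' n := fun S => f (w S)

theorem map_con (φ : Fin n → R) (w : W R n) : mapW f (con φ w) = con (f ∘ φ) (mapW f w) := by
  funext S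
  simp only [mapW, con_apply, Finset.sum_apply, Pi.smul_apply, smul_eq_mul, Dl_apply, map_sum, Function.comp_apply]
  refine sum_congr rfl fun s _ => ?_
  split_ifs
  · simp
  · simp [sgn]

theorem map_Ipro : ∀ (i : ℕ) (w : W R n),
    mapW f (Ipro Φ i w) = Ipro (fun a s => f (Φ a s)) i (mapW f w)
  | 0, _ => rfl
  | i + 1, w => by
    show mapW f (Ipro Φ i (io Φ i w)) = Ipro _ i (io _ i (mapW f w))
    rw [map_Ipro i]
    congr 1
    unfold io
    split_ifs with h
    · exact map_con f _ w
    · funext S; simp [mapW]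

theorem map_vec (j : ℕ) (g : Fin (rk m n j) → R) (a : Fin m →₀ ℕ) :
    mapW f (vec j g a) = vec j (f ∘ g) a := by
  funext S
  simp only [mapW, vec, LinearMap.coe_mk, AddHom.coe_mk]
  split_ifs <;> simp

theorem map_single {α : Type*} [DecidableEq α] (b : α) : f ∘ (Pi.single b 1 : α → R) = Pi.single b 1 := by
  funext c
  simp [Pi.single_apply]

theorem map_minorRow (b : Fin (rk m n 0)) : f (minorRow Φ b) = minorRow (fun a s => f (Φ a s)) b := by
  show mapW f (Ipro Φ m (vec 0 (Pi.single b 1) 0)) ∅ = Ipro _ m (vec 0 (Pi.single b 1) 0) ∅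
  rw [map_Ipro, map_vec, map_single]

theorem map_mat (j : ℕ) : (mat Φ j).map f = mat (fun a s => f (Φ a s)) j := by
  refine Matrix.ext fun b c => ?_
  simp only [Matrix.map_apply, mat, LinearMap.toMatrix'_apply]
  show f ((∑ i : Fin m, con (Φ i) _) _) = (∑ i : Fin m, con _ _) _
  simp only [Finset.sum_apply, map_sum]
  refine sum_congr rfl fun i _ => ?_
  show mapW f (con (Φ i) _) _ = _
  rw [map_con, map_vec]
  rw [map_single]
  rfl

theorem mat_mem (M : AddSubgroup R) (hM : ∀ i s, Φ i s ∈ M) (j : ℕ) (b : Fin (rk m n j)) (c : Fin (rk m n (j + 1))) :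
    mat Φ j b c ∈ M := by
  simp only [mat, LinearMap.toMatrix'_apply]
  show (∑ i : Fin m, con (Φ i) _) _ ∈ M
  rw [Finset.sum_apply]
  refine sum_mem fun i _ => ?_
  simp only [con_apply, Finset.sum_apply, Pi.smul_apply, smul_eq_mul, Dl_apply]
  refine sum_mem fun s _ => ?_
  split_ifs
  · simp
  · have h01 : ∀ a S, vec (R := R) (j + 1) (Pi.single c 1) a S = 0 ∨
        vec (R := R) (j + 1) (Pi.single c 1) a S = 1 := fun a S => by
      simp only [vec, LinearMap.coe_mk, AddHom.coe_mk, Pi.single_apply]
      split_ifs <;> simp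
    rcases h01 ((en (m := m) (n := n) j b).1.1 + Finsupp.single i 1) (insert s (en (m := m) (n := n) j b).1.2) with h | h
    all_goals rcases neg_one_pow_eq_or R (below s (en (m := m) (n := n) j b).1.2) with h' | h'
    all_goals rw [h, sgn, h']
    all_goals simp [hM]

end Natural

end Groth.L04.EagonNorthcott
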