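import Groth.Agent.L13.PowReg.Main
import Groth.Agent.L10.RelCan.SuppVanish
import Groth.Agent.L03.Euler.Twist
import Groth.Agent.L22.SchemeDim

/-!
# Regularity from a complex which is exact away from a closed set of dimension one
-/

set_option autoImplicit false
set_option backward.isDefEq.respectTransparency false
set_option backward.isDefEq.respectTransparency.types false
set_option linter.style.haveILetI false

universe u

open CategoryTheory CategoryTheory.Limits AlgebraicGeometry TopologicalSpace Opposite DirectSum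

noncomputable section

namespace Groth.L04.EagonNorthcott

open Groth.L22.SyzTilde (S G PS Fr theta matHom exists_common exists_theta_eq theta_injective theta_zero)
open Groth.L22.Reg (Regular tw' subsingleton_of_exact shortExact_tw isQCoh_tw)
open Groth.L16 (CohLinear.exact_hmap_hmap CohLinear.exact_hmap_delta)

variable {k : Type u} [Field k] {r : ℕ}

local notation "𝔓" => CohB1.polyGrading r k
local notation "sst" => Groth.L22.SyzTilde.st

section Exact

variable {N N' N'' : ℕ} {deg : Fin N → ℤ} {deg' : Fin N' → ℤ} {deg'' : Fin N'' → ℤ}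
  (A : Matrix (Fin N) (Fin N') (S r k)) (hA : ∀ a b, A a b ∈ G r k (deg' b - deg a))
  (B : Matrix (Fin N') (Fin N'') (S r k)) (hB : ∀ a b, B a b ∈ G r k (deg'' b - deg' a))

include hA hB in
/-- A complex of sums of twists from a complex of matrices. -/
theorem matHom_comp (h : ∀ v, Matrix.mulVec A (Matrix.mulVec B v) = 0) :
    matHom B hB ≫ matHom A hA = (0 : Fr (r := r) (k := k) deg'' ⟶ Fr deg) := by
  refine Groth.L22.SyzTilde.eq_zero_of_stalks _ fun x z => theta_injective _ x (funext fun a => ?_)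
  obtain ⟨j, s, hs, g, -, hg⟩ := exists_common deg'' x z
  rw [Groth.L22.SyzTilde.st_comp, Groth.L13.PowReg.matHom_value A hA x _ s hs (Matrix.mulVecLin B g)
    (Groth.L13.PowReg.matHom_value B hB x z s hs g hg) a, theta_zero]
  rw [show Matrix.mulVecLin A (Matrix.mulVecLin B g) = 0 from h g, Pi.zero_apply, Localization.mk_zero]

include hA hB in
/-- Exactness at a point. -/
theorem matHom_exactAt (x : ProjectiveSpectrum 𝔓)
    (h : ∀ g, Matrix.mulVec A g = 0 → ∃ c : S r k, c ∉ x.asHomogeneousIdeal ∧ ∃ v, Matrix.mulVec B v = c • g)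
    (z : (Groth.L21.Mod.stalkF (PS r k) x).obj (Fr deg')) (hz : sst x (matHom A hA) z = 0) :
    ∃ w, sst x (matHom B hB) w = z := by
  classical
  obtain ⟨j, s, hs, g, hgdeg, hg⟩ := exists_common deg' x z
  have h0 : ∀ a, ∃ c : S r k, c ∉ x.asHomogeneousIdeal ∧ c * Matrix.mulVecLin A g a = 0 := fun a => by
    have h := Groth.L13.PowReg.matHom_value A hA x z s hs g hg a
    rw [hz, theta_zero, ← Localization.mk_zero ⟨s.1, hs⟩, Localization.mk_eq_mk_iff, Localization.r_iff_exists] at h
    obtain ⟨⟨c, hcx⟩, hc⟩ := h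
    simp only [mul_zero] at hc
    exact ⟨c * s.1, fun hh => (x.isPrime.mem_or_mem hh).elim hcx hs, by rw [mul_assoc]; exact hc.symm⟩
  choose c hcx hc using h0
  have hC : (∏ a, c a) ∉ x.asHomogeneousIdeal := fun hh => by
    obtain ⟨a, -, ha⟩ := x.isPrime.prod_mem_iff.1 hh
    exact hcx a ha
  have hdeg : ∀ a, Matrix.mulVecLin A g a ∈ G r k ((j : ℤ) - deg a) := fun a => by
    show (∑ b, A a b * g b) ∈ _
    refine sum_mem fun b _ => ?_
    have := SetLike.mul_mem_graded (hA a b) (hgdeg b)
    rwa [show deg' b - deg a + ((j : ℤ) - deg' b) = (j : ℤ) - deg a by omega] at this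
  obtain ⟨l₀, c', hc', hcx', hkill⟩ := Groth.L22.SyzTilde.exists_hom_kill (G r k) x.asHomogeneousIdeal.toIdeal hC
    (fun a => Matrix.mulVecLin A g a) (fun a => (j : ℤ) - deg a) hdeg (fun a => by
      rw [smul_eq_mul, ← Finset.prod_erase_mul Finset.univ c (Finset.mem_univ a), mul_assoc, hc a, mul_zero])
  obtain ⟨e, hex, v, hv⟩ := h (c' • g) (by rw [Matrix.mulVec_smul]; exact funext fun a => hkill a)
  obtain ⟨i₀, hi₀⟩ : ∃ i : ℤ, (decompose (G r k) e i : S r k) ∉ x.asHomogeneousIdeal.toIdeal := by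
    by_contra hne
    push Not at hne
    refine hex ?_
    rw [← DirectSum.sum_support_decompose (G r k) e]
    exact sum_mem fun i _ => hne i
  let c₁ : S r k := (decompose (G r k) e i₀ : S r k) * c'
  have hc₁ : c₁ ∈ G r k (i₀ + l₀) := SetLike.mul_mem_graded (SetLike.coe_mem _) hc'
  have hcx₁ : c₁ ∉ x.asHomogeneousIdeal := fun hh => (x.isPrime.mem_or_mem hh).elim hi₀ hcx'
  rcases Groth.L22.SyzTilde.exists_nat_of_mem_G hc₁ with h0 | ⟨l, hl, hcl⟩
  · exact absurd (h0 ▸ zero_mem x.asHomogeneousIdeal.toIdeal) hcx₁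
  let v' : Fin N'' → S r k := fun b => decompose (G r k) (v b) (((l + j : ℕ) : ℤ) - deg'' b)
  have hv' : Matrix.mulVec B v' = c₁ • g := by
    funext a
    have hva : ∑ b, B a b * v b = e • (c' * g a) := congrFun hv a
    show ∑ b, B a b * v' b = c₁ * g a
    have hcg : c' * g a ∈ G r k (l₀ + ((j : ℤ) - deg' a)) := SetLike.mul_mem_graded hc' (hgdeg a)
    rw [mul_assoc, ← smul_eq_mul, show i₀ = ((l + j : ℕ) : ℤ) - deg' a - (l₀ + ((j : ℤ) - deg' a)) by omega,
      ← Groth.L22.SyzTilde.decompose_smul_right (G r k) hcg e, ← hva, decompose_sum, DFinsupp.finsetSum_apply,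
      Submodule.coe_sum]
    refine Finset.sum_congr rfl fun b _ => ?_
    rw [show B a b * v b = B a b • v b from rfl, Groth.L22.SyzTilde.decompose_smul_left (G r k) (hB a b)]
    rw [show ((l + j : ℕ) : ℤ) - deg' a - (deg'' b - deg' a) = ((l + j : ℕ) : ℤ) - deg'' b by omega]
    rfl
  have hcs : c₁ * s.1 ∉ x.asHomogeneousIdeal := fun hh => (x.isPrime.mem_or_mem hh).elim hcx₁ hs
  let t : 𝔓 (l + j) := ⟨c₁ * s.1, SetLike.mul_mem_graded hcl s.2⟩
  obtain ⟨z', hz'⟩ := exists_theta_eq deg'' x t hcs v' fun b => SetLike.coe_mem _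
  refine ⟨z', theta_injective _ x (funext fun a => ?_)⟩
  rw [Groth.L13.PowReg.matHom_value B hB x z' t hcs v' hz' a, hg a, Localization.mk_eq_mk_iff,
    Localization.r_iff_exists]
  refine ⟨1, ?_⟩
  rw [show Matrix.mulVecLin B v' = c₁ • g from hv']
  simp only [OneMemClass.coe_one, one_mul, Pi.smul_apply, smul_eq_mul, t]
  ring

end Exact

/-- Image and kernel. -/
theorem ses_image {A B : (PS r k).Modules} (f : A ⟶ B) :
    ∃ w : kernel.ι f ≫ factorThruImage f = 0, (ShortComplex.mk (kernel.ι f) (factorThruImage f) w).ShortExact := by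
  have w : kernel.ι f ≫ factorThruImage f = 0 := by
    rw [← cancel_mono (image.ι f), Category.assoc, image.fac, kernel.condition, zero_comp]
  refine ⟨w, ShortComplex.ShortExact.mk' ?_ inferInstance inferInstance⟩
  refine ShortComplex.exact_of_f_is_kernel _ (KernelFork.IsLimit.ofι _ _
    (fun g hg => kernel.lift _ g (by rw [← image.fac f, reassoc_of% hg, zero_comp]))
    (fun g hg => kernel.lift_ι _ _ _)
    (fun g hg m hm => by rw [← cancel_mono (kernel.ι f), kernel.lift_ι, hm]))

/-- One step of the chase: cycles modulo boundaries supported in dimension one. -/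
theorem cycles_step (T : Set (PS r k)) (hT : IsClosed T) (hdim : topologicalKrullDim T ≤ 1) {A B C : (PS r k).Modules}
    (hA : Coh.IsCoh A) (hB : Coh.IsCoh B) (hC : Coh.IsCoh C) (f : A ⟶ B) (g : B ⟶ C) (w : f ≫ g = 0)
    (hex : ∀ x, x ∉ T → ∀ z, sst x g z = 0 → ∃ y, sst x f y = z) (t : ℤ) (q : ℕ) (hq : 2 ≤ q)
    (h : Subsingleton (Coh.HH (CohB1.ProjSpace r k) (tw' (image f) t) q)) :
    Subsingleton (Coh.HH (CohB1.ProjSpace r k) (tw' (kernel g) t) q) := by
  haveI : IsLocallyNoetherian (PS r k) := inferInstanceAs (IsLocallyNoetherian (CohB1.ProjSpace r k))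
  have hfac : image.ι f ≫ g = 0 := by
    rw [← cancel_epi (factorThruImage f), image.fac_assoc, w, comp_zero]
  let u : image f ⟶ kernel g := kernel.lift g (image.ι f) hfac
  have hu : u ≫ kernel.ι g = image.ι f := kernel.lift_ι _ _ _
  haveI : Mono u := mono_of_mono_fac hu
  have hS : (ShortComplex.mk u (cokernel.π u) (cokernel.condition u)).ShortExact :=
    ShortComplex.ShortExact.mk' (ShortComplex.exact_cokernel u) inferInstance inferInstance
  have hker := (Groth.L16.CohKernel.isCoh_kernel_cokernel hB hC g).1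
  have hcoh : Coh.IsCoh (cokernel u) :=
    (Groth.L16.CohKernel.isCoh_kernel_cokernel (Groth.L13.PowReg.isCoh_image hA hB f) hker u).2
  have hsupp : CohB1.support (cokernel u) ⊆ T := fun x hx => by
    by_contra hxT
    refine hx (subsingleton_of_forall_eq 0 fun v => ?_)
    obtain ⟨z, rfl⟩ := (Groth.L21.Mod.epi_iff_stalk_surjective (cokernel.π u)).1 inferInstance x v
    have h0 : sst x g (sst x (kernel.ι g) z) = 0 := by
      rw [← Groth.L22.SyzTilde.st_comp, kernel.condition, Groth.L22.SyzTilde.st_zero]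
    obtain ⟨y, hy⟩ := hex x hxT _ h0
    have : z = sst x u (sst x (factorThruImage f) y) := by
      refine (Groth.L21.Mod.mono_iff_stalk_injective (kernel.ι g)).1 inferInstance x ?_
      show sst x (kernel.ι g) z = sst x (kernel.ι g) _
      rw [← hy, ← Groth.L22.SyzTilde.st_comp, ← Groth.L22.SyzTilde.st_comp, hu, image.fac]
    rw [this]
    show sst x (cokernel.π u) (sst x u _) = 0
    rw [← Groth.L22.SyzTilde.st_comp, cokernel.condition, Groth.L22.SyzTilde.st_zero]
  refine subsingleton_of_exact (CohLinear.exact_hmap_hmap (shortExact_tw hS t) q) h ?_ (map_zero _)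
  have hinv : PicF.IsInvertible (Twist.twistProjSpace r k t) := Groth.L16.ProjTwist.isInvertible_twistProjSpace r k t
  refine Groth.L10.RelCan.subsingleton_HH_supp (X := CohB1.ProjSpace r k) (CohB1.ProjSpace.toSpec r k) (d := 1) _
    (Groth.L03.Euler.isCoh_tensor hinv hcoh) T hT ?_ (fun y => ?_) (by omega)
  · show CohB1.support (CohB1.tensorMod (cokernel u) (Twist.twistProjSpace r k t)) ⊆ T
    rw [Groth.L03.Euler.support_tensor hinv]
    exact hsupp
  · refine (Groth.L22.SchemeDim.topologicalKrullDim_mono Set.inter_subset_right).trans ?_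
    rw [Nat.cast_one]
    exact hdim

/-- Regularity of the image of the augmentation. -/
theorem regular_of_exact_off (T : Set (PS r k)) (hT : IsClosed T) (hdim : topologicalKrullDim T ≤ 1) {m : ℤ}
    (F : ℕ → (PS r k).Modules) {O : (PS r k).Modules} (hO : Coh.IsCoh O) (hF : ∀ i, Coh.IsCoh (F i))
    (hreg : ∀ i : ℕ, Regular (F i) (m + i)) (o : F 0 ⟶ O) (dd : ∀ i, F (i + 1) ⟶ F i)
    (w0 : dd 0 ≫ o = 0) (w : ∀ i, dd (i + 1) ≫ dd i = 0)
    (h0 : ∀ x, x ∉ T → ∀ z, sst x o z = 0 → ∃ y, sst x (dd 0) y = z)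
    (h : ∀ i x, x ∉ T → ∀ z, sst x (dd i) z = 0 → ∃ y, sst x (dd (i + 1)) y = z) :
    Regular (image o) m := by
  haveI : IsLocallyNoetherian (PS r k) := inferInstanceAs (IsLocallyNoetherian (CohB1.ProjSpace r k))
  let B : ℕ → (PS r k).Modules
    | 0 => image o
    | i + 1 => image (dd i)
  have hB : ∀ i, Coh.IsCoh (B i) := fun i => match i with
    | 0 => Groth.L13.PowReg.isCoh_image (hF 0) hO o
    | i + 1 => Groth.L13.PowReg.isCoh_image (hF _) (hF _) _
  suffices H : ∀ (j i q : ℕ), r < q + j → 1 ≤ q →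
      Subsingleton (Coh.HH (CohB1.ProjSpace r k) (tw' (B i) (m + i - q)) q) by
    intro q hq
    simpa using H (r + 1) 0 q (by omega) hq
  intro j
  induction j with
  | zero =>
    intro i q hq _
    haveI := (hB i).1
    haveI := isQCoh_tw (B i) (m + i - q)
    exact Groth.L16.ProjSpace.subsingleton_HH_of_lt r k _ q (by omega)
  | succ j ih =>
    intro i q hq hq1
    have key : Subsingleton (Coh.HH (CohB1.ProjSpace r k) (tw' (B (i + 1)) (m + i - q)) (q + 1)) := by
      have := ih (i + 1) (q + 1) (by omega) (by omega)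
      rwa [show m + ((i + 1 : ℕ) : ℤ) - ((q + 1 : ℕ) : ℤ) = m + i - q by omega] at this
    cases i with
    | zero =>
      obtain ⟨w', hS⟩ := ses_image o
      exact subsingleton_of_exact (CohLinear.exact_hmap_delta (shortExact_tw hS _) q)
        ((hreg 0).subsingleton hq1 le_rfl)
        (cycles_step T hT hdim (hF 1) (hF 0) hO (dd 0) o w0 h0 _ (q + 1) (by omega) key) (map_zero _)
    | succ i =>
      obtain ⟨w', hS⟩ := ses_image (dd i)
      exact subsingleton_of_exact (CohLinear.exact_hmap_delta (shortExact_tw hS _) q)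
        ((hreg (i + 1)).subsingleton hq1 le_rfl)
        (cycles_step T hT hdim (hF (i + 2)) (hF (i + 1)) (hF i) (dd (i + 1)) (dd i) (w i) (h i) _ (q + 1)
          (by omega) key) (map_zero _)

end Groth.L04.EagonNorthcott
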