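import Groth.Agent.L04.EagonNorthcott.Det
import Groth.Agent.L04.EagonNorthcott.Regularity
import Groth.Agent.L24.Degen.Sheaf
import Groth.Agent.L24.Degen.Twist

/-!
# Determinantal ideals of matrices of linear forms
-/

set_option autoImplicit false
set_option backward.isDefEq.respectTransparency false
set_option backward.isDefEq.respectTransparency.types false
set_option linter.style.haveILetI false

universe u

open CategoryTheory CategoryTheory.Limits AlgebraicGeometry TopologicalSpace Opposite DirectSum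

noncomputable section

namespace Groth.L04.EagonNorthcott

open Groth.L22.SyzTilde (S G PS Fr toLoc matHom mem_G_cast)
open Groth.L13.PowReg (phi phi_germ phi_injective rowHom unitIso)
open Groth.L18.Frame (rs rs_smul rs_self IsFrame)
open Groth.L19.ProjBdl (IsBasisOn lc app_lc app_rs)
open Groth.L24.Degen (powFrame isFrame_powFrame homMat coordEquiv coordEquiv_symm_apply fitting_coker)

section Coproduct

variable {X : Scheme.{u}} {L : X.Modules} {W : X.Opens} {α : ℕ}

/-- The projections of a finite coproduct. -/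
def prj (j : Fin α) : (∐ fun _ : Fin α => L) ⟶ L := Sigma.desc fun i => if i = j then 𝟙 L else 0

theorem ι_prj (i j : Fin α) : Sigma.ι (fun _ : Fin α => L) i ≫ prj j = if i = j then 𝟙 L else 0 := by
  simp [prj]

theorem sum_prj_ι : ∑ j, prj (L := L) j ≫ Sigma.ι (fun _ : Fin α => L) j = 𝟙 _ := by
  refine Sigma.hom_ext _ _ fun i => ?_
  rw [Category.comp_id, Preadditive.comp_sum, Finset.sum_eq_single i (fun j _ hj => by
    rw [← Category.assoc, ι_prj, if_neg (Ne.symm hj), zero_comp]) (by simp),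
    ← Category.assoc, ι_prj, if_pos rfl, Category.id_comp]

theorem app_comp' {P Q R : X.Modules} (f : P ⟶ Q) (g : Q ⟶ R) (h : P ⟶ R) (he : f ≫ g = h) (V : X.Opens)
    (t : Γ(P, V)) : g.app V (f.app V t) = h.app V t := by
  subst he
  rfl

/-- The basis of a coproduct of copies of a framed module. -/
def sumBasis (e : Γ(L, W)) (j : Fin α) : Γ((∐ fun _ : Fin α => L : X.Modules), W) :=
  (Sigma.ι (fun _ : Fin α => L) j).app W e

theorem prj_app_sumBasis (e : Γ(L, W)) (i j : Fin α) :
    (prj j).app W (sumBasis e i) = if i = j then e else 0 := by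
  show (prj j).app W ((Sigma.ι (fun _ : Fin α => L) i).app W e) = _
  rw [app_comp' _ _ _ (ι_prj i j)]
  split_ifs <;> rfl

theorem isBasisOn_sumBasis {e : Γ(L, W)} (he : IsFrame L W e) :
    IsBasisOn (∐ fun _ : Fin α => L) W (sumBasis (α := α) e) := by
  classical
  intro V h
  have hlc : ∀ z : Fin α → Γ(X, V), lc _ (sumBasis (α := α) e) h z =
      ∑ i, (Sigma.ι (fun _ : Fin α => L) i).app V (z i • rs L h e) := fun z =>
    Finset.sum_congr rfl fun i _ => by
      rw [Scheme.Modules.Hom.app_smul, app_rs]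
      rfl
  have hp : ∀ (z : Fin α → Γ(X, V)) j, (prj j).app V (lc _ (sumBasis (α := α) e) h z) = z j • rs L h e := fun z j => by
    rw [hlc, map_sum, Finset.sum_eq_single j (fun i _ hi => by
      rw [app_comp' _ _ _ (ι_prj i j), if_neg hi]; rfl) (by simp), app_comp' _ _ _ (ι_prj j j), if_pos rfl]
    rfl
  refine ⟨fun z z' hz => funext fun j => (he V h).1 ?_, fun t => ?_⟩
  · show z j • rs L h e = z' j • rs L h e
    rw [← hp, ← hp, hz]
  · choose z hz using fun j => (he V h).2 ((prj j).app V t)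
    refine ⟨z, ?_⟩
    rw [hlc]
    have h1 : ∀ i, (Sigma.ι (fun _ : Fin α => L) i).app V (z i • rs L h e) =
        (prj (L := L) i ≫ Sigma.ι (fun _ : Fin α => L) i).app V t := fun i => by
      rw [show z i • rs L h e = (prj i).app V t from hz i]
      rfl
    simp only [h1]
    let T : ((∐ fun _ : Fin α => L : X.Modules) ⟶ ∐ fun _ : Fin α => L) →+ Γ((∐ fun _ : Fin α => L : X.Modules), V) :=
      AddMonoidHom.mk' (fun ψ => ψ.app V t) fun _ _ => rfl
    show ∑ i, T (prj (L := L) i ≫ Sigma.ι (fun _ : Fin α => L) i) = t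
    rw [← map_sum, sum_prj_ι]
    rfl

theorem isFrame_unit (W : X.Opens) : IsFrame (Coh.structureModule X) W (1 : Γ(X, W)) := fun V h => by
  have h1 : rs (Coh.structureModule X) h (1 : Γ(X, W)) = (1 : Γ(X, V)) := map_one (X.presheaf.map (homOfLE h).op).hom
  refine ⟨fun a a' e => ?_, fun t => ⟨t, ?_⟩⟩
  · have : a * (1 : Γ(X, V)) = a' * 1 := by
      rw [← h1]; exact e
    simpa using this
  · show t • rs (Coh.structureModule X) h (1 : Γ(X, W)) = t
    rw [h1]
    show (show Γ(X, V) from t) * 1 = _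
    exact mul_one _

/-- Coordinates in the basis of `O^α`. -/
theorem coord_free (hb : IsBasisOn (∐ fun _ : Fin α => Coh.structureModule X) W
      (sumBasis (α := α) (1 : Γ(X, W))))
    (t : Γ((∐ fun _ : Fin α => Coh.structureModule X : X.Modules), W)) (i : Fin α) :
    coordEquiv hb t i = (show Γ(X, W) from (prj i).app W t) := by
  classical
  obtain ⟨z, rfl⟩ := (coordEquiv hb).symm.surjective t
  rw [LinearEquiv.apply_symm_apply, coordEquiv_symm_apply, map_sum, Finset.sum_eq_single i]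
  · rw [Scheme.Modules.Hom.app_smul, prj_app_sumBasis, if_pos rfl]
    exact (mul_one (z i)).symm
  · intro l _ hl
    rw [Scheme.Modules.Hom.app_smul, prj_app_sumBasis, if_neg hl, smul_zero]
  · simp

end Coproduct

variable {k : Type u} [Field k] {r : ℕ}

local notation "𝔓" => CohB1.polyGrading r k
local notation "P" => CohB1.ProjSpace r k

/-- A coordinate. -/
def cf (a : Fin (r + 1)) : 𝔓 1 := ⟨MvPolynomial.X a, Groth.L16.ProjSpace.X_mem r k a⟩

/-- The unit section of `O(0)`. -/
def oneSec : Γ(Twist.twistProjSpace r k 0, (⊤ : (P).Opens)) :=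
  Groth.L16.ProjTwist.gen (i := 0) (j := 0) (⟨1, SetLike.GradedOne.one_mem⟩ : 𝔓 0)
    ⟨1, SetLike.GradedOne.one_mem⟩ (by simp) _ (fun x => Groth.L16.ProjTwist.one_notMem _ x.1)

/-- The frame of `O(-1)` on a chart, as a section of `Twist.twist`. -/
def frm0 (f : 𝔓 1) : Γ(Twist.twist 𝔓 (-1), Proj.basicOpen 𝔓 f.1) :=
  powFrame f (-1)

/-- The frame of `O(-1)` on a chart. -/
def frm (f : 𝔓 1) : Γ(Twist.twistProjSpace r k (-1), (Proj.basicOpen 𝔓 f.1 : (P).Opens)) :=
  frm0 f

theorem isFrame_frm (f : 𝔓 1) :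
    IsFrame (Twist.twistProjSpace r k (-1)) (Proj.basicOpen 𝔓 f.1 : (P).Opens) (frm f) :=
  isFrame_powFrame f (-1)

/-- The entry of a map `O(-1) ⟶ O` on a chart. -/
def entry (ψ : Twist.twistProjSpace r k (-1) ⟶ Coh.structureModule (P)) (a : Fin (r + 1)) :
    Γ(P, Proj.basicOpen 𝔓 (cf (k := k) a).1) :=
  ψ.app (Proj.basicOpen 𝔓 (cf (k := k) a).1) (frm (cf a))

theorem map_sig {R R' : Type u} [CommRing R] [CommRing R'] (f : R →+* R') : ∀ i : ℕ, f (sig i) = sig i
  | 0 => by simp [sig]
  | i + 1 => by simp [sig, map_sig f i]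

theorem exists_form (ψ : Twist.twistProjSpace r k (-1) ⟶ Coh.structureModule (P)) :
    ∃ Q : S r k, Q ∈ CohB1.polyGrading r k 1 ∧ ∀ (a : Fin (r + 1)) (x : ProjectiveSpectrum 𝔓)
      (hx : x ∈ Proj.basicOpen 𝔓 (cf (k := k) a).1),
      phi x ((PS r k).presheaf.germ (Proj.basicOpen 𝔓 (cf (k := k) a).1) x hx (entry ψ a)) =
        Localization.mk Q ⟨MvPolynomial.X a, (Proj.mem_basicOpen _ _ _).1 hx⟩ := by
  obtain ⟨Q, hQ⟩ := Groth.L13.ProjDual.exists_eq_mulHom (n := r) (R := k) (k := 1) (show (-1 : ℤ) + ((1 : ℕ) : ℤ) = 0 by norm_num)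
    (ψ ≫ Groth.L16.homOfSection _ (oneSec (k := k) (r := r)))
  refine ⟨Q.1, Q.2, fun a x hx => ?_⟩
  let W := Proj.basicOpen 𝔓 (cf (k := k) a).1
  have h : (ψ ≫ Groth.L16.homOfSection _ (oneSec (k := k) (r := r))).app W (frm (cf a)) =
      (Groth.L13.ProjDual.mulHom Q (show (-1 : ℤ) + ((1 : ℕ) : ℤ) = 0 by norm_num)).app W (frm (cf a)) := by
    rw [hQ]
  have h2 := congrArg (fun f : Twist.sectN (𝒜 := 𝔓) 0 (op W) => (f.1 ⟨x, hx⟩).1) h
  rw [phi_germ]
  have e1 : ((entry ψ a).1 ⟨x, hx⟩).val * Localization.mk (1 : S r k) ⟨1, Groth.L16.ProjTwist.one_notMem _ x⟩ =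
      toLoc x Q.1 * Localization.mk ((cf (k := k) a).1 ^ (-1 : ℤ).toNat)
        ⟨(cf (k := k) a).1 ^ (-(-1 : ℤ)).toNat, Groth.L24.Degen.pow_notMem (cf a) le_rfl _ ⟨x, hx⟩⟩ := by
    refine Eq.trans ?_ h2
    exact (Twist.coe_smul_val (𝒜 := 𝔓) 0 x ((entry ψ a).1 ⟨x, hx⟩)
      ((show Twist.sectN (𝒜 := 𝔓) 0 (op ⊤) from oneSec (k := k) (r := r)).1 ⟨x, trivial⟩)).symm
  rw [Localization.mk_self (⟨1, _⟩ : x.asHomogeneousIdeal.toIdeal.primeCompl), mul_one, toLoc, Localization.mk_mul] at e1
  rw [e1, Localization.mk_eq_mk_iff, Localization.r_iff_exists]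
  exact ⟨1, by simp [cf]⟩

set_option maxHeartbeats 1000000 in
theorem regular_fitting (m n : ℕ)
    (φ : (∐ fun _ : Fin n => Twist.twistProjSpace r k (-1)) ⟶ FlatMod.freeMod (P) m)
    (hdim : topologicalKrullDim ((Fitt.sheafIdeal (cokernel φ) 0).support : Set (P)) ≤ 1) :
    Groth.L22.Reg.Regular (n := r) (R := k) (ClSub.idealMod (Fitt.sheafIdeal (cokernel φ) 0)) m := by
  classical
  haveI : IsLocallyNoetherian (PS r k) := inferInstanceAs (IsLocallyNoetherian (P))
  haveI : IsLocallyNoetherian (P) := inferInstance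
  choose Q hQdeg hQ using fun (ij : Fin m × Fin n) =>
    exists_form (Sigma.ι (fun _ : Fin n => Twist.twistProjSpace r k (-1)) ij.2 ≫ φ ≫ prj ij.1)
  let Φ : Fin m → Fin n → S r k := fun i j => Q (i, j)
  have hΦ : ∀ i j, Φ i j ∈ G r k 1 := fun i j => (mem_G_cast (i := 1)).2 (hQdeg (i, j))
  let I := Fitt.sheafIdeal (cokernel φ) 0
  let W : Fin (r + 1) → (P).Opens := fun a => Proj.basicOpen 𝔓 (cf (k := k) a).1
  have hW : ∀ a, IsAffineOpen (W a) := fun a => Proj.isAffineOpen_basicOpen _ _ (cf (k := k) a).2 one_pos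
  let row : Fin (rk m n 0) → S r k := minorRow Φ
  have hdet : ∀ g : Fin m → Fin n, (Matrix.of fun i l => Φ i (g l)).det ∈ G r k (m : ℤ) := fun g => by
    rw [Matrix.det_apply]
    refine sum_mem fun σ _ => ?_
    have h1 : (∏ i, (Matrix.of fun i l => Φ i (g l)) (σ i) i) ∈ G r k (m : ℤ) := by
      have := SetLike.prod_mem_graded (G r k) (fun _ : Fin m => (1 : ℤ))
        (fun i => (Matrix.of fun i l => Φ i (g l)) (σ i) i) (F := Finset.univ) fun i _ => hΦ _ _
      simpa using this
    rcases Int.units_eq_one_or (Equiv.Perm.sign σ) with h | h <;> rw [h] <;> simpa using h1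
  have hrow : ∀ b, row b ∈ G r k (m : ℤ) := fun b => by
    show minorRow Φ b ∈ _
    rw [minorRow_eq]
    have hs : (sig m : S r k) = 1 ∨ (sig m : S r k) = -1 := mul_self_eq_one_iff.1 (sig_sq m)
    rcases hs with h | h <;> rw [h] <;> simpa using hdet _
  let deg : (j : ℕ) → Fin (rk m n j) → ℤ := fun j _ => ((m + j : ℕ) : ℤ)
  have hmat : ∀ (j : ℕ) b c, mat Φ j b c ∈ G r k (deg (j + 1) c - deg j b) := fun j b c => by
    rw [show deg (j + 1) c - deg j b = 1 by simp [deg]]
    exact mat_mem Φ (G r k 1).toAddSubgroup hΦ j b c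
  -- the values of the dehomogenised matrix
  let c : ∀ (a : Fin (r + 1)) (x : ProjectiveSpectrum 𝔓), x ∈ W a → Twist.Loc 𝔓 x := fun a x hx =>
    Localization.mk 1 ⟨MvPolynomial.X a, (Proj.mem_basicOpen _ _ _).1 hx⟩
  have hfit : ∀ (a : Fin (r + 1)) (x : ProjectiveSpectrum 𝔓) (hx : x ∈ W a),
      ∃ γ : Fin (rk m n 0) → (PS r k).presheaf.stalk x,
        (∀ b, phi x (γ b) = Localization.mk (row b)
          (⟨MvPolynomial.X a ^ m, fun h => (Proj.mem_basicOpen _ _ _).1 hx (x.isPrime.mem_of_pow_mem m h)⟩ :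
            x.asHomogeneousIdeal.toIdeal.primeCompl)) ∧
        Ideal.span (Set.range γ) = (I.ideal ⟨W a, hW a⟩).map ((PS r k).presheaf.germ (W a) x hx).hom := by
    intro a x hx
    have hbs : IsBasisOn (∐ fun _ : Fin n => Twist.twistProjSpace r k (-1)) (W a)
        (sumBasis (α := n) (frm (cf a))) := isBasisOn_sumBasis (isFrame_frm _)
    have hbt : IsBasisOn (∐ fun _ : Fin m => Coh.structureModule (P)) (W a)
        (sumBasis (α := m) (1 : Γ(P, W a))) := isBasisOn_sumBasis (isFrame_unit _)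
    haveI hO := Groth.L16.CohClosedPush.isCoh_structure (X := P)
    have hsrc : Coh.IsCoh (∐ fun _ : Fin n => Twist.twistProjSpace r k (-1)) :=
      Groth.L16.ProjSpace.isCoh_sigma_twist r k fun _ => (-1 : ℤ)
    haveI := hsrc.1
    have htgt : Coh.IsCoh (FlatMod.freeMod (P) m) :=
      Groth.L16.NegPow.isCoh_of_isFinLocFree (Groth.L16.HomSh.isFinLocFree_of_bases fun y => by
        obtain ⟨i, hi⟩ := Groth.L16.ProjSpace.exists_mem_basicOpen_X r k y
        exact ⟨_, _, _, hi, isBasisOn_sumBasis (α := m) (isFrame_unit (Proj.basicOpen 𝔓 (MvPolynomial.X i)))⟩)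
    haveI := htgt.1
    have hcok := (Groth.L16.CohKernel.isCoh_kernel_cokernel hsrc htgt φ).2
    haveI := hcok.1
    let germ := ((PS r k).presheaf.germ (W a) x hx).hom
    let M : Fin m → Fin n → (PS r k).presheaf.stalk x := fun i j =>
      germ (homMat (sumBasis (α := n) (frm (cf a))) hbt φ i j)
    have hI : (I.ideal ⟨W a, hW a⟩).map germ = minorsIdeal M := by
      rw [Groth.L15.FittSheaf.sheafIdeal_ideal (cokernel φ) hcok.2,
        fitting_coker (hW a) hbs hbt φ, tsub_zero, CAlgX.minorIdeal, Ideal.map_span]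
      refine le_antisymm (Ideal.span_le.2 ?_) (Ideal.span_le.2 ?_)
      · rintro _ ⟨_, ⟨⟨g, h⟩, rfl⟩, rfl⟩
        rw [SetLike.mem_coe, RingHom.map_det]
        by_cases hg : Function.Injective g
        · let σ : Equiv.Perm (Fin m) := Equiv.ofBijective g (Finite.injective_iff_bijective.1 hg)
          have e : germ.mapMatrix ((homMat (sumBasis (α := n) (frm (cf a))) hbt φ).submatrix g h) =
              (Matrix.of fun i l => M i (h l)).submatrix σ id := by
            ext i l
            rfl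
          show (germ.mapMatrix ((homMat (sumBasis (α := n) (frm (cf a))) hbt φ).submatrix g h)).det ∈ _
          rw [e, Matrix.det_permute]
          exact Ideal.mul_mem_left _ _ (Ideal.subset_span ⟨h, rfl⟩)
        · simp only [Function.Injective, not_forall] at hg
          obtain ⟨i, j, hij, hne⟩ := hg
          rw [Matrix.det_zero_of_row_eq hne (funext fun l => by simp [hij])]
          exact zero_mem _
      · rintro _ ⟨h, rfl⟩
        refine Ideal.subset_span ⟨_, ⟨(id, h), rfl⟩, ?_⟩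
        rw [RingHom.map_det]
        rfl
    refine ⟨minorRow M, fun b => ?_, (span_minorRow M).trans hI.symm⟩
    have hval : ∀ i j, phi x (M i j) = toLoc x (Φ i j) * c a x hx := fun i j => by
      have h := hQ (i, j) a x hx
      rw [show toLoc x (Φ i j) * c a x hx = Localization.mk (Q (i, j)) ⟨MvPolynomial.X a, (Proj.mem_basicOpen _ _ _).1 hx⟩ by
        simp only [toLoc, c, Φ, Localization.mk_mul, mul_one]
        exact congrArg (Localization.mk _) (Subtype.ext (one_mul _)), ← h]
      refine congrArg (fun t => phi x (germ t)) ?_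
      show coordEquiv hbt (φ.app (W a) (sumBasis (frm (cf a)) j)) i = _
      rw [coord_free]
      rfl
    rw [map_minorRow, minorRow_eq]
    let tl : S r k →+* Twist.Loc 𝔓 x := algebraMap (S r k) (Twist.Loc 𝔓 x)
    have htl : ∀ p, tl p = toLoc x p := fun p => (Localization.mk_one_eq_algebraMap p).symm
    let e := (en (m := m) (n := n) 0 b).1.2.orderEmbOfFin (en 0 b).2.2
    rw [show (Matrix.of fun i l => phi x (M i (e l))) =
        c a x hx • (Matrix.of fun i l => Φ i (e l)).map tl from by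
      ext i l
      simp [hval, htl, mul_comm],
      Matrix.det_smul, ← RingHom.mapMatrix_apply, ← RingHom.map_det]
    show _ = Localization.mk (minorRow Φ b) _
    rw [minorRow_eq, Fintype.card_fin, htl]
    simp only [c, toLoc, Localization.mk_pow, Localization.mk_mul]
    have hs : (sig m : Twist.Loc 𝔓 x) = Localization.mk (sig m : S r k) ⟨1, Groth.L16.ProjTwist.one_notMem _ x⟩ := by
      rw [show Localization.mk (sig m : S r k) (⟨1, _⟩ : x.asHomogeneousIdeal.toIdeal.primeCompl) = tl (sig m) from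
        Localization.mk_one_eq_algebraMap _]
      exact (map_sig tl m).symm
    rw [hs, Localization.mk_mul, Localization.mk_eq_mk_iff, Localization.r_iff_exists]
    exact ⟨1, by simp; exact Or.inl rfl⟩
  -- the complex
  have w0 : matHom (mat Φ 0) (hmat 0) ≫ rowHom (deg := deg 0) row hrow = 0 := by
    rw [rowHom, ← Category.assoc, matHom_comp (fun _ b => row b) (fun _ b => by simpa [deg] using hrow b) (mat Φ 0) (hmat 0)
      (fun v => funext fun _ => minorRow_mat Φ v), zero_comp]
  have w : ∀ i, matHom (mat Φ (i + 1)) (hmat (i + 1)) ≫ matHom (mat Φ i) (hmat i) = 0 := fun i =>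
    matHom_comp _ _ _ _ (mat_mat Φ i)
  have hunit : ∀ x : ProjectiveSpectrum 𝔓, (x : P) ∉ I.support →
      ∃ g : Fin m → Fin n, (Matrix.of fun i l => Φ i (g l)).det ∉ x.asHomogeneousIdeal := by
    intro x hx
    obtain ⟨a, ha⟩ := Groth.L16.ProjSpace.exists_mem_basicOpen_X r k x
    obtain ⟨γ, hγ, hγI⟩ := hfit a x ha
    by_contra hall
    push Not at hall
    rw [Scheme.IdealSheafData.mem_support_iff_of_mem (U := ⟨W a, hW a⟩) ha, Scheme.mem_zeroLocus_iff] at hx
    push Not at hx
    obtain ⟨t, ht, htx⟩ := hx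
    have htu : IsUnit ((PS r k).presheaf.germ (W a) x ha t) := (Scheme.mem_basicOpen (PS r k) t x ha).1 htx
    have hle : Ideal.span (Set.range γ) ≤ IsLocalRing.maximalIdeal ((PS r k).presheaf.stalk x) := by
      refine Ideal.span_le.2 ?_
      rintro _ ⟨b, rfl⟩
      rw [SetLike.mem_coe, IsLocalRing.mem_maximalIdeal, mem_nonunits_iff]
      intro hu
      have hu' := hu.map (phi x)
      rw [hγ, Localization.mk_eq_mk'] at hu'
      refine (IsLocalization.AtPrime.isUnit_mk'_iff (S := Twist.Loc 𝔓 x) x.asHomogeneousIdeal.toIdeal _ _).1 hu' ?_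
      show minorRow Φ b ∈ x.asHomogeneousIdeal
      rw [minorRow_eq]
      exact Ideal.mul_mem_left _ _ (hall _)
    rw [hγI] at hle
    exact (IsLocalRing.mem_maximalIdeal _).1 (hle (Ideal.mem_map_of_mem _ ht)) htu
  have hclear : ∀ (x : ProjectiveSpectrum 𝔓) {N N' : ℕ} (B : Matrix (Fin N) (Fin N') (S r k)) (v : Fin N → S r k)
      (u : Fin N' → Twist.Loc 𝔓 x),
      Matrix.mulVec (B.map (algebraMap (S r k) (Twist.Loc 𝔓 x))) u = (fun i => algebraMap (S r k) (Twist.Loc 𝔓 x) (v i)) →
      ∃ c : S r k, c ∉ x.asHomogeneousIdeal ∧ ∃ w, Matrix.mulVec B w = c • v := by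
    intro x N N' B v u hu
    obtain ⟨⟨d, hd⟩, hdu⟩ := IsLocalization.exist_integer_multiples_of_finite x.asHomogeneousIdeal.toIdeal.primeCompl u
    choose w hw using hdu
    refine ⟨d, hd, w, funext fun i => ?_⟩
    have hle : x.asHomogeneousIdeal.toIdeal.primeCompl ≤ nonZeroDivisors (S r k) := Ideal.primeCompl_le_nonZeroDivisors _
    refine IsLocalization.injective (Twist.Loc 𝔓 x) hle ?_
    have h1 := congrFun hu i
    simp only [Matrix.mulVec, dotProduct, Matrix.map_apply] at h1
    simp only [Matrix.mulVec, dotProduct, map_sum, map_mul, Pi.smul_apply, smul_eq_mul]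
    rw [← h1, Finset.mul_sum]
    refine Finset.sum_congr rfl fun j _ => ?_
    rw [hw j]
    simp only [Algebra.smul_def]
    ring
  have hex : ∀ (x : ProjectiveSpectrum 𝔓), (x : P) ∉ I.support →
      (∀ v, (∑ b, row b * v b = 0) → ∃ c : S r k, c ∉ x.asHomogeneousIdeal ∧ ∃ u, Matrix.mulVec (mat Φ 0) u = c • v) ∧
      ∀ j v, Matrix.mulVec (mat Φ j) v = 0 →
        ∃ c : S r k, c ∉ x.asHomogeneousIdeal ∧ ∃ u, Matrix.mulVec (mat Φ (j + 1)) u = c • v := by
    intro x hx
    obtain ⟨g, hg⟩ := hunit x hx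
    let f := algebraMap (S r k) (Twist.Loc 𝔓 x)
    have hu : IsUnit (Matrix.of fun i l => (fun i s => f (Φ i s)) i (g l)).det := by
      have e : (Matrix.of fun i l => (fun i s => f (Φ i s)) i (g l)) = f.mapMatrix (Matrix.of fun i l => Φ i (g l)) := rfl
      rw [e, ← RingHom.map_det]
      exact IsLocalization.map_units (Twist.Loc 𝔓 x)
        (⟨_, hg⟩ : x.asHomogeneousIdeal.toIdeal.primeCompl)
    refine ⟨fun v hv => ?_, fun j v hv => ?_⟩
    · obtain ⟨u, hu'⟩ := exact_mat_zero g hu (fun b => f (v b)) (by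
        rw [← map_zero f, ← hv, map_sum]
        exact Finset.sum_congr rfl fun b _ => by rw [map_mul, map_minorRow])
      rw [← map_mat] at hu'
      exact hclear x _ v u hu'
    · obtain ⟨u, hu'⟩ := exact_mat_succ g hu j (fun b => f (v b)) (by
        rw [← map_mat Φ f]
        funext b
        show Matrix.mulVec ((mat Φ j).map f) (f ∘ v) b = 0
        rw [← RingHom.map_mulVec, hv, Pi.zero_apply, map_zero])
      rw [← map_mat] at hu'
      exact hclear x _ v u hu'
  have hst : ∀ x : ProjectiveSpectrum 𝔓, Function.Injective (Groth.L22.SyzTilde.st x (unitIso (r := r) (k := k)).hom) :=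
    fun x z z' h => by
      have := congrArg (Groth.L22.SyzTilde.st x (unitIso (r := r) (k := k)).inv) h
      rwa [← Groth.L22.SyzTilde.st_comp, ← Groth.L22.SyzTilde.st_comp, Iso.hom_inv_id, Groth.L22.SyzTilde.st_id,
        Groth.L22.SyzTilde.st_id] at this
  have hcohO : Coh.IsCoh (Coh.structureModule (PS r k)) :=
    Groth.L16.CohSupport.isCoh_of_iso unitIso (Groth.L22.SyzTilde.isCoh_Fr _)
  have hreg := regular_of_exact_off (m := (m : ℤ)) (I.support : Set (P)) I.support.isClosed hdim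
    (fun i => Fr (deg i)) hcohO (fun i => Groth.L22.SyzTilde.isCoh_Fr _)
    (fun i => Groth.L22.SyzTilde.regular_Fr fun b => by simp [deg])
    (rowHom (deg := deg 0) row hrow) (fun i => matHom (mat Φ i) (hmat i)) w0 w
    (fun x hx z hz => by
      refine matHom_exactAt (fun _ b => row b) (fun _ b => by simpa [deg] using hrow b) (mat Φ 0) (hmat 0) x
        (fun v hv => (hex x hx).1 v (congrFun hv 0)) z (hst x ?_)
      rw [map_zero, ← Groth.L22.SyzTilde.st_comp]
      exact hz)
    (fun i x hx z hz => matHom_exactAt (mat Φ i) (hmat i) (mat Φ (i + 1)) (hmat (i + 1)) x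
      (fun v hv => (hex x hx).2 i v hv) z hz)
  haveI : Mono (ClSub.idealModι I) := inferInstanceAs (Mono (kernel.ι _))
  obtain ⟨iso⟩ := Groth.L13.PowReg.nonempty_image_iso (rowHom (deg := deg 0) row hrow) (ClSub.idealModι I) fun x v => by
    obtain ⟨a, ha⟩ := Groth.L16.ProjSpace.exists_mem_basicOpen_X r k x
    obtain ⟨γ, hγ, hγI⟩ := hfit a x ha
    refine (Groth.L13.PowReg.range_rowHom m row row hrow 1 (fun b => by simp [deg]) ?_ x
      ((Proj.mem_basicOpen _ _ _).1 ha) γ hγ v).trans ?_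
    · ext f
      constructor
      · rintro ⟨i, rfl⟩
        exact ⟨Finsupp.single i 1, Finsupp.degree_single _ _, by simp⟩
      · rintro ⟨β, hβ, rfl⟩
        obtain ⟨i, rfl⟩ := Finsupp.range_single_one.ge hβ
        exact ⟨i, by simp⟩
    · rw [pow_one, hγI]
      exact (Groth.L21.RR.range_st_idealModι I (hW a) ha v).symm
  intro q hq
  exact Groth.L22.Reg.subsingleton_iso (Groth.L00.Tensor.tensorIso iso (Iso.refl _)) q (hreg q hq)

end Groth.L04.EagonNorthcott
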