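import Groth.Agent.L04.EagonNorthcott.Signs
import Mathlib.Algebra.Module.Pi
import Mathlib.Data.Finsupp.Weight
import Mathlib.Data.Finset.Max

/-!
# The Eagon–Northcott complex and its contraction
-/

set_option autoImplicit false

universe u

noncomputable section

namespace Groth.L04.EagonNorthcott

open Finset

variable {R : Type u} [CommRing R] {m n : ℕ}

/-- Families over divided power monomials. -/
abbrev V (R : Type u) (m n : ℕ) : Type u := (Fin m →₀ ℕ) → W R n

variable (Φ : Fin m → Fin n → R) (e : Fin m → Fin n → R)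

/-- Contraction with the `i`th row. -/
def io (i : ℕ) : Module.End R (W R n) := if h : i < m then con (Φ ⟨i, h⟩) else 0

/-- Multiplication with the `i`th dual column. -/
def ep (i : ℕ) : Module.End R (W R n) := if h : i < m then wed (e ⟨i, h⟩) else 0

/-- The differential. -/
def dd : V R m n →ₗ[R] V R m n where
  toFun v a := ∑ i : Fin m, con (Φ i) (v (a + Finsupp.single i 1))
  map_add' v w := funext fun a => by simp [sum_add_distrib]
  map_smul' c v := funext fun a => by simp [smul_sum]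

/-- The iterated contraction. -/
def Ipro : ℕ → Module.End R (W R n)
  | 0 => 1
  | i + 1 => Ipro i * io Φ i

/-- The projectors. -/
def Qpro : ℕ → Module.End R (W R n)
  | 0 => 1
  | i + 1 => ep e i * io Φ i * Qpro i

/-- The augmentation. -/
def aug : V R m n →ₗ[R] R :=
  (LinearMap.proj ∅).comp ((Ipro Φ m).comp (LinearMap.proj (0 : Fin m →₀ ℕ)))

theorem aug_apply (v : V R m n) : aug Φ v = Ipro Φ m (v 0) ∅ := rfl

theorem io_io (i j : ℕ) (w : W R n) : io Φ i (io Φ j w) = -io Φ j (io Φ i w) := by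
  unfold io
  split_ifs <;> first | exact con_comm _ _ _ | simp

theorem io_self (i : ℕ) (w : W R n) : io Φ i (io Φ i w) = 0 := by
  unfold io
  split_ifs <;> simp [con_self]

theorem Ipro_io : ∀ (i j : ℕ), j < i → ∀ w : W R n, Ipro Φ i (io Φ j w) = 0
  | i + 1, j, h, w => by
    show Ipro Φ i (io Φ i (io Φ j w)) = 0
    rcases eq_or_lt_of_le (Nat.le_of_lt_succ h) with rfl | h'
    · rw [io_self, map_zero]
    · rw [io_io, map_neg, Ipro_io i j h', neg_zero]

theorem aug_dd (v : V R m n) : aug Φ (dd Φ v) = 0 := by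
  rw [aug_apply]
  show Ipro Φ m (∑ i : Fin m, con (Φ i) _) ∅ = 0
  rw [map_sum, sum_eq_zero fun i _ => ?_, Pi.zero_apply]
  have := Ipro_io Φ m i i.2 (v (0 + Finsupp.single i 1))
  rwa [io, dif_pos i.2] at this

theorem dd_dd (v : V R m n) : dd Φ (dd Φ v) = 0 := by
  funext a
  show ∑ i : Fin m, con (Φ i) (∑ j : Fin m, con (Φ j) (v (a + Finsupp.single i 1 + Finsupp.single j 1))) = 0
  simp only [map_sum]
  rw [← sum_product' (f := fun i j => con (Φ i) (con (Φ j) (v (a + Finsupp.single i 1 + Finsupp.single j 1))))]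
  refine sum_involution (fun p _ => (p.2, p.1)) (fun p _ => ?_) (fun p _ hne h => hne ?_) (by simp) (by simp)
  · rw [con_comm (Φ p.1), add_right_comm a, neg_add_cancel]
  · obtain ⟨p1, p2⟩ := p
    obtain rfl : p2 = p1 := (Prod.ext_iff.1 h).1
    exact con_self _ _

section Contraction

variable {Φ e}
variable (hδ : ∀ i j, ∑ s, Φ i s * e j s = if i = j then 1 else 0)
include hδ

theorem io_ep (i j : ℕ) (hi : i < m) (w : W R n) :
    io Φ i (ep e j w) + ep e j (io Φ i w) = if i = j then w else 0 := by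
  unfold io ep
  rw [dif_pos hi]
  by_cases hj : j < m
  · rw [dif_pos hj, con_wed, hδ]
    simp only [Fin.mk.injEq]
    split_ifs <;> simp
  · rw [dif_neg hj, if_neg (by omega)]
    simp

theorem io_Qpro : ∀ (i j : ℕ), i ≤ j → j < m → ∀ w : W R n, io Φ j (Qpro Φ e i w) = Qpro Φ e i (io Φ j w)
  | 0, _, _, _, _ => rfl
  | i + 1, j, h, hj, w => by
    show io Φ j (ep e i (io Φ i (Qpro Φ e i w))) = ep e i (io Φ i (Qpro Φ e i (io Φ j w)))
    have h1 := io_ep hδ j i hj (io Φ i (Qpro Φ e i w))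
    rw [if_neg (by omega)] at h1
    rw [eq_neg_of_add_eq_zero_left h1, io_io, map_neg, neg_neg, io_Qpro i j (by omega) hj]

theorem Qpro_io : ∀ (i j : ℕ), j < i → i ≤ m → ∀ w : W R n, Qpro Φ e i (io Φ j w) = 0
  | i + 1, j, h, hi, w => by
    show ep e i (io Φ i (Qpro Φ e i (io Φ j w))) = 0
    rcases eq_or_lt_of_le (Nat.le_of_lt_succ h) with rfl | h'
    · rw [← io_Qpro hδ j j le_rfl (by omega), io_self, map_zero]
    · rw [Qpro_io i j h' (by omega), map_zero, map_zero]

theorem io_ep_Qpro (i : ℕ) (hi : i < m) (w : W R n) :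
    io Φ i (ep e i (Qpro Φ e i w)) = Qpro Φ e i w - Qpro Φ e (i + 1) w := by
  have h := io_ep hδ i i hi (Qpro Φ e i w)
  rw [if_pos rfl] at h
  exact eq_sub_of_add_eq h

theorem Qpro_eq_zero : ∀ (i : ℕ), i ≤ m → ∀ w : W R n, Ipro Φ i w = 0 → Qpro Φ e i w = 0
  | 0, _, w, h => h
  | i + 1, hi, w, h => by
    show ep e i (io Φ i (Qpro Φ e i w)) = 0
    rw [io_Qpro hδ i i le_rfl (by omega), Qpro_eq_zero i (by omega) _ h, map_zero]

end Contraction

/-- The contracting homotopy. -/
def hh (v : V R m n) : V R m n := fun a =>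
  if h : a.support.Nonempty then
    ep e (a.support.min' h).1 (Qpro Φ e (a.support.min' h).1 (v (a - Finsupp.single (a.support.min' h) 1)))
  else 0

theorem hh_of_min (v : V R m n) (a : Fin m →₀ ℕ) (j : Fin m) (hj : a j ≠ 0) (hlt : ∀ i, i < j → a i = 0) :
    hh Φ e v a = ep e j.1 (Qpro Φ e j.1 (v (a - Finsupp.single j 1))) := by
  have hmem : j ∈ a.support := Finsupp.mem_support_iff.2 hj
  have hmin : a.support.min' ⟨j, hmem⟩ = j := by
    refine le_antisymm (min'_le _ _ hmem) (le_min' _ _ _ fun i hi => not_lt.1 fun h => ?_)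
    exact Finsupp.mem_support_iff.1 hi (hlt i h)
  rw [hh, dif_pos ⟨j, hmem⟩, hmin]

theorem sum_telescope (Q : ℕ → W R n) : ∀ (i : ℕ), i ≤ m →
    ∑ j ∈ univ.filter (fun j : Fin m => j.1 < i), (Q j.1 - Q (j.1 + 1)) = Q 0 - Q i
  | 0, _ => by simp
  | i + 1, hi => by
    have e : univ.filter (fun j : Fin m => j.1 < i + 1) =
        insert ⟨i, hi⟩ (univ.filter (fun j : Fin m => j.1 < i)) := by
      ext j
      simp [Fin.ext_iff]
      omega
    rw [e, sum_insert (by simp), sum_telescope Q i (by omega)]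
    abel

section Contraction

variable {Φ e}
variable (hδ : ∀ i j, ∑ s, Φ i s * e j s = if i = j then 1 else 0)
include hδ

theorem homotopy_zero (v : V R m n) : dd Φ (hh Φ e v) 0 = v 0 - Qpro Φ e m (v 0) := by
  show ∑ i : Fin m, con (Φ i) (hh Φ e v (0 + Finsupp.single i 1)) = _
  have h : ∀ i : Fin m, con (Φ i) (hh Φ e v (0 + Finsupp.single i 1)) =
      Qpro Φ e i.1 (v 0) - Qpro Φ e (i.1 + 1) (v 0) := fun i => by
    rw [hh_of_min Φ e v _ i (by simp) (fun l hl => by simp [hl.ne']), zero_add, tsub_self]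
    have := io_ep_Qpro hδ i.1 i.2 (v 0)
    rwa [io, dif_pos i.2] at this
  simp only [h]
  have := sum_telescope (fun i => Qpro Φ e i (v 0)) m le_rfl
  rwa [filter_true_of_mem fun j _ => j.2] at this

theorem homotopy (v : V R m n) (a : Fin m →₀ ℕ) (ha : a ≠ 0) :
    dd Φ (hh Φ e v) a + hh Φ e (dd Φ v) a = v a := by
  have hne : a.support.Nonempty := Finsupp.support_nonempty_iff.2 ha
  set j := a.support.min' hne with hjdef
  have haj : a j ≠ 0 := Finsupp.mem_support_iff.1 (min'_mem _ hne)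
  have hlt : ∀ i, i < j → a i = 0 := fun i hi => by
    by_contra h
    exact not_le.2 hi (min'_le _ _ (Finsupp.mem_support_iff.2 h))
  have h1 : ∀ i : Fin m, i < j → con (Φ i) (hh Φ e v (a + Finsupp.single i 1)) =
      Qpro Φ e i.1 (v a) - Qpro Φ e (i.1 + 1) (v a) := fun i hi => by
    rw [hh_of_min Φ e v _ i (by simp) (fun l hl => by simp [hl.ne', hlt l (hl.trans hi)]),
      add_tsub_cancel_right]
    have := io_ep_Qpro hδ i.1 i.2 (v a)
    rwa [io, dif_pos i.2] at this
  have hsub : ∀ i : Fin m, a - Finsupp.single j 1 + Finsupp.single i 1 = a + Finsupp.single i 1 - Finsupp.single j 1 := by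
    intro i
    ext l
    simp only [Finsupp.add_apply, Finsupp.tsub_apply, Finsupp.single_apply]
    rcases eq_or_ne j l with rfl | hl
    · split_ifs <;> omega
    · simp [hl]
  have h2 : ∀ i : Fin m, ¬ i < j → con (Φ i) (hh Φ e v (a + Finsupp.single i 1)) +
      ep e j.1 (Qpro Φ e j.1 (con (Φ i) (v (a + Finsupp.single i 1 - Finsupp.single j 1)))) =
        if i = j then Qpro Φ e j.1 (v a) else 0 := fun i hi => by
    rw [hh_of_min Φ e v _ j (by simp only [Finsupp.add_apply]; omega)
      (fun l hl => by simp [hlt l hl, (hl.trans_le (not_lt.1 hi)).ne'])]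
    have h := io_ep hδ i.1 j.1 i.2 (Qpro Φ e j.1 (v (a + Finsupp.single i 1 - Finsupp.single j 1)))
    rw [io_Qpro hδ j.1 i.1 (not_lt.1 hi) i.2, io, dif_pos i.2] at h
    rw [h]
    by_cases hij : i = j
    · subst hij; rw [if_pos rfl, if_pos rfl, add_tsub_cancel_right]
    · rw [if_neg hij, if_neg (fun h => hij (Fin.ext h))]
  show ∑ i : Fin m, con (Φ i) (hh Φ e v (a + Finsupp.single i 1)) + hh Φ e (dd Φ v) a = v a
  rw [hh_of_min Φ e (dd Φ v) a j haj hlt]
  show _ + ep e j.1 (Qpro Φ e j.1 (∑ i : Fin m, con (Φ i) (v (a - Finsupp.single j 1 + Finsupp.single i 1)))) = _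
  simp only [map_sum, hsub]
  rw [← sum_add_distrib, ← sum_filter_add_sum_filter_not univ (fun i : Fin m => i < j)]
  rw [sum_congr rfl (g := fun i : Fin m => Qpro Φ e i.1 (v a) - Qpro Φ e (i.1 + 1) (v a)) fun i hi => ?_,
    sum_congr rfl (s₁ := univ.filter (fun i : Fin m => ¬ i < j))
      (g := fun i : Fin m => if i = j then Qpro Φ e j.1 (v a) else 0) fun i hi => h2 i (mem_filter.1 hi).2,
    sum_ite_eq' _ j, if_pos (by simp)]
  · have := sum_telescope (fun i => Qpro Φ e i (v a)) j.1 j.2.le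
    rw [show (univ.filter fun i : Fin m => i < j) = univ.filter (fun i : Fin m => i.1 < j.1) from rfl, this]
    show v a - _ + _ = v a
    abel
  · have hi' := (mem_filter.1 hi).2
    have h0 := Qpro_io hδ j.1 i.1 hi' j.2.le (v (a + Finsupp.single i 1 - Finsupp.single j 1))
    rw [io, dif_pos i.2] at h0
    rw [h0, map_zero, add_zero, h1 i hi']

/-- Exactness in positive level. -/
theorem exact_pos (v : V R m n) (h0 : v 0 = 0) (hd : dd Φ v = 0) : dd Φ (hh Φ e v) = v := by
  funext a
  rcases eq_or_ne a 0 with rfl | ha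
  · rw [homotopy_zero hδ, h0, map_zero, sub_zero]
  · have h := homotopy hδ v a ha
    have hz : hh Φ e (dd Φ v) a = 0 := by
      rw [hd, hh]
      split_ifs <;> simp
    rwa [hz, add_zero] at h

/-- Exactness in level zero. -/
theorem exact_zero (v : V R m n) (hd : dd Φ v = 0)
    (haug : Ipro Φ m (v 0) = 0) : dd Φ (hh Φ e v) = v := by
  funext a
  rcases eq_or_ne a 0 with rfl | ha
  · rw [homotopy_zero hδ, Qpro_eq_zero hδ m le_rfl _ haug, sub_zero]
  · have h := homotopy hδ v a ha
    have hz : hh Φ e (dd Φ v) a = 0 := by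
      rw [hd, hh]
      split_ifs <;> simp
    rwa [hz, add_zero] at h

end Contraction

end Groth.L04.EagonNorthcott
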