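import Groth.Agent.L04.EagonNorthcott.Homotopy
import Mathlib.LinearAlgebra.Matrix.NonsingularInverse
import Mathlib.RingTheory.Localization.Integer

/-!
# The Eagon–Northcott complex as a complex of matrices
-/

set_option autoImplicit false

universe u

noncomputable section

namespace Groth.L04.EagonNorthcott

open Finset

variable {R : Type u} [CommRing R] {m n : ℕ}

/-- The indices of the `j`th term. -/
abbrev Lvl (m n j : ℕ) (p : (Fin m →₀ ℕ) × Finset (Fin n)) : Prop := p.1.degree = j ∧ p.2.card = m + j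

/-- The basis of the `j`th term. -/
abbrev Ix (m n j : ℕ) := {p : (Fin m →₀ ℕ) × Finset (Fin n) // Lvl m n j p}

instance (j : ℕ) : Finite (Ix m n j) := by
  refine Finite.of_injective (fun p : Ix m n j =>
    ((fun i => (⟨p.1.1 i, by have := Finsupp.le_degree i p.1.1; have := p.2.1; omega⟩ : Fin (j + 1))), p.1.2)) ?_
  rintro ⟨⟨a, S⟩, ha⟩ ⟨⟨b, T⟩, hb⟩ h
  simp only [Prod.mk.injEq, funext_iff, Fin.mk.injEq] at h
  exact Subtype.ext (Prod.ext (Finsupp.ext h.1) h.2)

/-- The rank of the `j`th term. -/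
def rk (m n j : ℕ) : ℕ := Nat.card (Ix m n j)

/-- The enumeration of the basis. -/
def en (j : ℕ) : Fin (rk m n j) ≃ Ix m n j := (Finite.equivFin _).symm

/-- The coordinates at level `j`. -/
def co (j : ℕ) : V R m n →ₗ[R] (Fin (rk m n j) → R) where
  toFun v b := v (en j b).1.1 (en j b).1.2
  map_add' _ _ := rfl
  map_smul' _ _ := rfl

open Classical in
/-- The family with given coordinates at level `j`. -/
def vec (j : ℕ) : (Fin (rk m n j) → R) →ₗ[R] V R m n where
  toFun g a S := if h : Lvl m n j (a, S) then g ((en j).symm ⟨(a, S), h⟩) else 0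
  map_add' g g' := funext fun a => funext fun S => by simp only [Pi.add_apply]; split_ifs <;> simp
  map_smul' c g := funext fun a => funext fun S => by simp only [Pi.smul_apply, RingHom.id_apply]; split_ifs <;> simp

theorem co_vec (j : ℕ) (g : Fin (rk m n j) → R) : co j (vec j g) = g := funext fun b => by
  show (vec j g) (en j b).1.1 (en j b).1.2 = g b
  simp [vec, (en j b).2]

theorem vec_co_apply (j : ℕ) (v : V R m n) {a : Fin m →₀ ℕ} {S : Finset (Fin n)} (h : Lvl m n j (a, S)) :
    vec j (co j v) a S = v a S := by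
  simp [vec, co, h]

theorem vec_apply_of_not (j : ℕ) (g : Fin (rk m n j) → R) {a : Fin m →₀ ℕ} {S : Finset (Fin n)}
    (h : ¬ Lvl m n j (a, S)) : vec j g a S = 0 := by
  simp [vec, h]

variable (Φ : Fin m → Fin n → R)

theorem con_apply_congr (φ : Fin n → R) {w w' : W R n} {S : Finset (Fin n)}
    (h : ∀ s ∉ S, w (insert s S) = w' (insert s S)) : con φ w S = con φ w' S := by
  simp only [con_apply, Finset.sum_apply, Pi.smul_apply, Dl_apply]
  refine sum_congr rfl fun s _ => ?_
  split_ifs with hs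
  · rfl
  · rw [h s hs]

theorem dd_congr (j : ℕ) {v v' : V R m n} (h : co (j + 1) v = co (j + 1) v') : co j (dd Φ v) = co j (dd Φ v') := by
  funext b
  obtain ⟨⟨a, S⟩, ha⟩ : Ix m n j := en j b
  show dd Φ v (en j b).1.1 (en j b).1.2 = dd Φ v' (en j b).1.1 (en j b).1.2
  obtain ⟨hdeg, hcard⟩ := (en j b).2
  show (∑ i : Fin m, con (Φ i) (v _)) _ = (∑ i : Fin m, con (Φ i) (v' _)) _
  simp only [Finset.sum_apply]
  refine sum_congr rfl fun i _ => con_apply_congr _ fun s hs => ?_
  have hl : Lvl m n (j + 1) ((en j b).1.1 + Finsupp.single i 1, insert s (en j b).1.2) :=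
    ⟨by simp [hdeg], by rw [card_insert_of_notMem hs, hcard]; omega⟩
  rw [← vec_co_apply (j + 1) v hl, h, vec_co_apply (j + 1) v' hl]

theorem dd_vec_of_not (j : ℕ) (g : Fin (rk m n (j + 1)) → R) {a : Fin m →₀ ℕ} {S : Finset (Fin n)}
    (h : ¬ Lvl m n j (a, S)) : dd Φ (vec (j + 1) g) a S = 0 := by
  show (∑ i : Fin m, con (Φ i) (vec (j + 1) g _)) S = 0
  simp only [Finset.sum_apply]
  refine sum_eq_zero fun i _ => ?_
  refine (con_apply_congr (w' := 0) _ fun s hs => ?_).trans (by simp)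
  refine vec_apply_of_not _ _ fun hl => h ⟨?_, ?_⟩
  · have := hl.1; simp at this; exact this
  · have := hl.2; rw [card_insert_of_notMem hs] at this; simp only; omega

theorem vec_co_dd (j : ℕ) (g : Fin (rk m n (j + 1)) → R) :
    vec j (co j (dd Φ (vec (j + 1) g))) = dd Φ (vec (j + 1) g) := by
  funext a S
  by_cases h : Lvl m n j (a, S)
  · exact vec_co_apply j _ h
  · rw [vec_apply_of_not j _ h, dd_vec_of_not Φ j g h]

/-- The matrices of the differentials. -/
def mat (j : ℕ) : Matrix (Fin (rk m n j)) (Fin (rk m n (j + 1))) R :=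
  LinearMap.toMatrix' ((co j).comp ((dd Φ).comp (vec (j + 1))))

/-- The row of maximal minors. -/
def minorRow (b : Fin (rk m n 0)) : R := aug Φ (vec 0 (Pi.single b 1))

theorem mat_mulVec (j : ℕ) (g : Fin (rk m n (j + 1)) → R) :
    Matrix.mulVec (mat Φ j) g = co j (dd Φ (vec (j + 1) g)) := by
  rw [mat, LinearMap.toMatrix'_mulVec]
  rfl

theorem sum_minorRow (g : Fin (rk m n 0) → R) : ∑ b, minorRow Φ b * g b = aug Φ (vec 0 g) := by
  conv_rhs => rw [pi_eq_sum_univ' g]
  simp only [map_sum, map_smul, smul_eq_mul, minorRow]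
  exact sum_congr rfl fun b _ => mul_comm _ _

theorem mat_mat (j : ℕ) (g : Fin (rk m n (j + 2)) → R) :
    Matrix.mulVec (mat Φ j) (Matrix.mulVec (mat Φ (j + 1)) g) = 0 := by
  rw [mat_mulVec, mat_mulVec, vec_co_dd, dd_dd, map_zero]

theorem minorRow_mat (g : Fin (rk m n 1) → R) : ∑ b, minorRow Φ b * Matrix.mulVec (mat Φ 0) g b = 0 := by
  rw [sum_minorRow, mat_mulVec, vec_co_dd, aug_dd]

theorem Ipro_eq_zero : ∀ (i : ℕ) (w : W R n) (S : Finset (Fin n)),
    (∀ T : Finset (Fin n), T.card = S.card + i → w T = 0) → Ipro Φ i w S = 0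
  | 0, w, S, hw => hw S rfl
  | i + 1, w, S, hw => by
    show Ipro Φ i (io Φ i w) S = 0
    refine Ipro_eq_zero i (io Φ i w) S fun T hT => ?_
    unfold io
    split_ifs with hi
    · refine (con_apply_congr (w' := 0) _ fun s hs => hw _ ?_).trans (by simp)
      rw [card_insert_of_notMem hs, hT]
      omega
    · rfl

section Exact

variable {Φ}

theorem exists_dual (g : Fin m → Fin n) (hg : IsUnit (Matrix.of fun i l => Φ i (g l)).det) :
    ∃ e : Fin m → Fin n → R, ∀ i j, ∑ s, Φ i s * e j s = if i = j then 1 else 0 := by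
  classical
  let A : Matrix (Fin m) (Fin m) R := Matrix.of fun i l => Φ i (g l)
  refine ⟨fun j s => ∑ l, if g l = s then A⁻¹ l j else 0, fun i j => ?_⟩
  have h := congrFun (congrFun (Matrix.mul_nonsing_inv A hg) i) j
  rw [Matrix.mul_apply, Matrix.one_apply] at h
  simp only [mul_sum, mul_ite, mul_zero]
  rw [sum_comm, ← h]
  refine sum_congr rfl fun l _ => ?_
  rw [sum_ite_eq]
  simp [A]

theorem exact_mat_zero (g : Fin m → Fin n) (hg : IsUnit (Matrix.of fun i l => Φ i (g l)).det)
    (v : Fin (rk m n 0) → R) (hv : ∑ b, minorRow Φ b * v b = 0) :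
    ∃ u, Matrix.mulVec (mat Φ 0) u = v := by
  obtain ⟨e, he⟩ := exists_dual g hg
  refine ⟨co 1 (hh Φ e (vec 0 v)), ?_⟩
  have hs : ∀ a ≠ 0, vec 0 v a = 0 := fun a ha => funext fun S =>
    vec_apply_of_not 0 v fun h => ha ((Finsupp.degree_eq_zero_iff a).1 h.1)
  have hd : dd Φ (vec 0 v) = 0 := funext fun a => by
    show ∑ i : Fin m, con (Φ i) (vec 0 v (a + Finsupp.single i 1)) = 0
    exact sum_eq_zero fun i _ => by rw [hs _ (by simp), map_zero]
  have hI : Ipro Φ m (vec 0 v 0) = 0 := funext fun S => by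
    rcases S.eq_empty_or_nonempty with rfl | hS
    · rw [sum_minorRow, aug_apply] at hv
      exact hv
    · refine Ipro_eq_zero Φ m _ S fun T hT => vec_apply_of_not 0 v fun hl => ?_
      have h2 : T.card = m + 0 := hl.2
      have := hS.card_pos
      omega
  rw [mat_mulVec, dd_congr Φ 0 (v' := hh Φ e (vec 0 v)) (co_vec _ _), exact_zero he _ hd hI, co_vec]

theorem exact_mat_succ (g : Fin m → Fin n) (hg : IsUnit (Matrix.of fun i l => Φ i (g l)).det) (j : ℕ)
    (v : Fin (rk m n (j + 1)) → R) (hv : Matrix.mulVec (mat Φ j) v = 0) :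
    ∃ u, Matrix.mulVec (mat Φ (j + 1)) u = v := by
  obtain ⟨e, he⟩ := exists_dual g hg
  refine ⟨co (j + 2) (hh Φ e (vec (j + 1) v)), ?_⟩
  have h0 : vec (j + 1) v 0 = 0 := funext fun S => vec_apply_of_not _ v fun h => by
    have := h.1
    simp at this
  have hd : dd Φ (vec (j + 1) v) = 0 := by
    rw [← vec_co_dd, ← mat_mulVec, hv, map_zero]
  rw [mat_mulVec, dd_congr Φ (j + 1) (v' := hh Φ e (vec (j + 1) v)) (co_vec _ _), exact_pos he _ h0 hd, co_vec]

end Exact

end Groth.L04.EagonNorthcott
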