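import Mathlib.LinearAlgebra.Matrix.Determinant.Basic
import Mathlib.Data.Fintype.Basic
import Mathlib.Tactic.Ring

/-!
# Contraction and exterior multiplication on functions of finite subsets
-/

set_option autoImplicit false

universe u

namespace Groth.L04.EagonNorthcott

open Finset

variable {R : Type u} [CommRing R] {n : ℕ}

/-- Coordinates of the exterior algebra on `n` letters. -/
abbrev W (R : Type u) (n : ℕ) : Type u := Finset (Fin n) → R

/-- The number of elements of `S` below `s`. -/
def below (s : Fin n) (S : Finset (Fin n)) : ℕ := (S.filter (· < s)).card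

/-- The sign of the position of `s`. -/
def sgn (s : Fin n) (S : Finset (Fin n)) : R := (-1) ^ below s S

/-- Removing the letter `s`. -/
def Dl (s : Fin n) : Module.End R (W R n) where
  toFun v S := if s ∈ S then 0 else sgn s S * v (insert s S)
  map_add' v w := funext fun S => by
    simp only [Pi.add_apply]
    split_ifs <;> simp [mul_add]
  map_smul' c v := funext fun S => by
    simp only [Pi.smul_apply, smul_eq_mul, RingHom.id_apply]
    split_ifs <;> ring

/-- Adding the letter `s`. -/
def Ml (s : Fin n) : Module.End R (W R n) where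
  toFun v S := if s ∈ S then sgn s (S.erase s) * v (S.erase s) else 0
  map_add' v w := funext fun S => by
    simp only [Pi.add_apply]
    split_ifs <;> simp [mul_add]
  map_smul' c v := funext fun S => by
    simp only [Pi.smul_apply, smul_eq_mul, RingHom.id_apply]
    split_ifs <;> ring

theorem Dl_apply (s : Fin n) (v : W R n) (S : Finset (Fin n)) :
    Dl s v S = if s ∈ S then 0 else sgn s S * v (insert s S) := rfl

theorem Ml_apply (s : Fin n) (v : W R n) (S : Finset (Fin n)) :
    Ml s v S = if s ∈ S then sgn s (S.erase s) * v (S.erase s) else 0 := rfl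

theorem below_insert (s t : Fin n) (S : Finset (Fin n)) (h : t ∉ S) :
    below s (insert t S) = below s S + if t < s then 1 else 0 := by
  unfold below
  rw [filter_insert]
  split_ifs with hlt
  · rw [card_insert_of_notMem (fun hh => h (mem_filter.1 hh).1)]
  · simp

theorem sgn_insert (s t : Fin n) (S : Finset (Fin n)) (h : t ∉ S) :
    (sgn s (insert t S) : R) = sgn s S * if t < s then -1 else 1 := by
  rw [sgn, sgn, below_insert s t S h, pow_add]
  split_ifs <;> simp

theorem sgn_erase (s t : Fin n) (S : Finset (Fin n)) (h : t ∈ S) :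
    (sgn s (S.erase t) : R) = sgn s S * if t < s then -1 else 1 := by
  conv_rhs => rw [← insert_erase h, sgn_insert s t _ (notMem_erase t S)]
  split_ifs <;> ring

theorem sgn_sq (s : Fin n) (S : Finset (Fin n)) : (sgn s S : R) * sgn s S = 1 := by
  rw [sgn, ← pow_add, ← two_mul, pow_mul]
  simp

theorem Dl_self (s : Fin n) (v : W R n) : Dl s (Dl s v) = 0 := by
  funext S
  simp [Dl_apply]

theorem Dl_comm {s t : Fin n} (hst : s ≠ t) (v : W R n) : Dl s (Dl t v) = -Dl t (Dl s v) := by
  funext S
  simp only [Dl_apply, Pi.neg_apply, mem_insert]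
  by_cases hs : s ∈ S
  · simp [hs]
  by_cases ht : t ∈ S
  · simp [ht]
  simp only [hs, ht, hst, Ne.symm hst, if_false, or_self]
  rw [sgn_insert t s S hs, sgn_insert s t S ht, Finset.insert_comm t s S]
  rcases lt_or_gt_of_ne hst with h | h
  · rw [if_pos h, if_neg (lt_asymm h)]; ring
  · rw [if_neg (lt_asymm h), if_pos h]; ring

theorem Dl_Ml_self (s : Fin n) (v : W R n) : Dl s (Ml s v) + Ml s (Dl s v) = v := by
  funext S
  simp only [Pi.add_apply, Dl_apply, Ml_apply]
  by_cases hs : s ∈ S
  · simp only [hs, if_true, notMem_erase, if_false, insert_erase hs]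
    rw [zero_add, ← mul_assoc, sgn_sq, one_mul]
  · simp only [hs, if_false, mem_insert_self, if_true, erase_insert hs, add_zero]
    rw [← mul_assoc, sgn_sq, one_mul]

theorem Dl_Ml_ne {s t : Fin n} (hst : s ≠ t) (v : W R n) : Dl s (Ml t v) + Ml t (Dl s v) = 0 := by
  funext S
  simp only [Pi.add_apply, Dl_apply, Ml_apply, Pi.zero_apply]
  by_cases ht : t ∈ S
  · by_cases hs : s ∈ S
    · simp [hs, hst]
    · simp only [hs, ht, if_false, if_true, mem_insert, or_true, mem_erase, and_false]
      rw [erase_insert_of_ne hst, sgn_insert t s _ (fun h => hs (mem_of_mem_erase h)), sgn_erase s t S ht]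
      rcases lt_or_gt_of_ne hst with h | h
      · rw [if_pos h, if_neg (lt_asymm h)]; ring
      · rw [if_neg (lt_asymm h), if_pos h]; ring
  · by_cases hs : s ∈ S
    · simp [hs, ht]
    · simp [hs, ht, Ne.symm hst]

/-- Contraction with a covector. -/
def con (φ : Fin n → R) : Module.End R (W R n) := ∑ s, φ s • Dl s

/-- Multiplication by a vector. -/
def wed (e : Fin n → R) : Module.End R (W R n) := ∑ s, e s • Ml s

theorem con_apply (φ : Fin n → R) (v : W R n) : con φ v = ∑ s, φ s • Dl s v := by
  simp [con, LinearMap.sum_apply]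

theorem wed_apply (e : Fin n → R) (v : W R n) : wed e v = ∑ s, e s • Ml s v := by
  simp [wed, LinearMap.sum_apply]

theorem con_self (φ : Fin n → R) (v : W R n) : con φ (con φ v) = 0 := by
  suffices H : ∀ t : Finset (Fin n), (∑ s ∈ t, φ s • Dl s (∑ r ∈ t, φ r • Dl r v) : W R n) = 0 by
    rw [con_apply φ (con φ v), con_apply φ v]
    exact H univ
  intro t
  induction t using Finset.induction_on with
  | empty => simp
  | insert a t ha ih =>
    have hcross : ∀ r ∈ t, φ a • Dl a (φ r • Dl r v) + φ r • Dl r (φ a • Dl a v) = (0 : W R n) := fun r hr => by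
      rw [map_smul, map_smul, Dl_comm (fun h => ha (by rw [h]; exact hr)) v, smul_neg, smul_neg, smul_smul,
        smul_smul, mul_comm (φ r), neg_add_cancel]
    simp only [sum_insert ha, map_add, map_sum, smul_add, smul_sum, sum_add_distrib] at ih ⊢
    rw [map_smul (Dl a) (φ a) (Dl a v), Dl_self, smul_zero, smul_zero, zero_add, ih, add_zero, ← sum_add_distrib]
    exact sum_eq_zero hcross

theorem con_comm (φ ψ : Fin n → R) (v : W R n) : con φ (con ψ v) = -con ψ (con φ v) := by
  have h1 := con_self (φ + ψ) v
  have e : con (φ + ψ) = (con φ + con ψ : Module.End R (W R n)) := by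
    simp [con, add_smul, sum_add_distrib]
  rw [e] at h1
  simp only [LinearMap.add_apply, map_add, con_self, zero_add, add_zero] at h1
  exact eq_neg_of_add_eq_zero_left (by rw [add_comm]; exact h1)

theorem con_wed (φ e : Fin n → R) (v : W R n) : con φ (wed e v) + wed e (con φ v) = (∑ s, φ s * e s) • v := by
  simp only [con_apply, wed_apply, map_sum, map_smul, smul_sum, smul_smul]
  rw [sum_comm (γ := Fin n) (f := fun x y => (e x * φ y) • Dl y (Ml x v)), ← sum_add_distrib, sum_smul]
  refine sum_congr rfl fun s _ => ?_
  rw [← sum_add_distrib, sum_eq_single s]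
  · rw [mul_comm (e s), ← smul_add, Dl_Ml_self]
  · intro t _ hts
    rw [mul_comm (e t), ← smul_add, Dl_Ml_ne (Ne.symm hts), smul_zero]
  · simp

end Groth.L04.EagonNorthcott
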